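import Mathlib
import Groth.Prelude.Def_FinFr

/-!
# The fixed point scheme of the Frobenius of a base-changed scheme over a finite field
(S14550, S13067) (helper2)

All local rings of the fixed point scheme of `F = Frob_q × id` on `X ×_k K` are equal to `K`.
-/

set_option autoImplicit false
set_option backward.isDefEq.respectTransparency.types false
set_option synthInstance.maxHeartbeats 400000
set_option maxHeartbeats 4000000
set_option linter.style.haveILetI false
set_option linter.unusedSectionVars false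
set_option linter.unusedVariables false

universe u
open CategoryTheory CategoryTheory.Limits AlgebraicGeometry Opposite

namespace Groth.Agent.Helper2.FixFrob

section Algebra

/-- `∏_{a ∈ k} (X - a) = X^q - X` over a finite field with `q` elements -/
theorem prod_X_sub_C_eq (k : Type*) [Field k] [Fintype k] :
    (∏ a : k, (Polynomial.X - Polynomial.C a) : Polynomial k) =
      Polynomial.X ^ Fintype.card k - Polynomial.X := by
  classical
  have h1 : 1 < Fintype.card k := Fintype.one_lt_card
  have hmonic : (Polynomial.X ^ Fintype.card k - Polynomial.X : Polynomial k).Monic := by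
    apply Polynomial.monic_X_pow_sub
    rw [Polynomial.degree_X]
    exact_mod_cast h1
  have hroots := FiniteField.roots_X_pow_card_sub_X k
  have hcard : Multiset.card (Polynomial.X ^ Fintype.card k - Polynomial.X : Polynomial k).roots =
      (Polynomial.X ^ Fintype.card k - Polynomial.X : Polynomial k).natDegree := by
    rw [hroots, FiniteField.X_pow_card_sub_X_natDegree_eq k h1]
    rfl
  have h2 := Polynomial.prod_multiset_X_sub_C_of_monic_of_roots_card_eq hmonic hcard
  rw [hroots] at h2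
  exact h2

/-- in a local ring containing a finite field with `q` elements, the solutions of `x^q = x` are
the elements of that field -/
theorem eq_map_of_pow_card_eq {k R : Type*} [Field k] [Fintype k] [CommRing R] [IsLocalRing R]
    (φ : k →+* R) (x : R) (hx : x ^ Fintype.card k = x) : ∃ a : k, x = φ a := by
  classical
  have hprod : ∏ a : k, (x - φ a) = 0 := by
    have h2 := congrArg (Polynomial.eval₂ φ x) (prod_X_sub_C_eq k)
    rw [Polynomial.eval₂_finsetProd] at h2
    simp only [Polynomial.eval₂_sub, Polynomial.eval₂_X, Polynomial.eval₂_C,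
      Polynomial.eval₂_pow] at h2
    rw [h2, hx, sub_self]
  have hex : ∃ a : k, ¬ IsUnit (x - φ a) := by
    by_contra hcon
    push Not at hcon
    have h3 : IsUnit (∏ a : k, (x - φ a)) := IsUnit.prod_univ_iff.mpr hcon
    rw [hprod] at h3
    exact not_isUnit_zero h3
  obtain ⟨a₀, ha₀⟩ := hex
  refine ⟨a₀, ?_⟩
  have hothers : ∀ a ∈ Finset.univ.erase a₀, IsUnit (x - φ a) := by
    intro a ha
    have hne : a ≠ a₀ := Finset.ne_of_mem_erase ha
    by_contra hnu
    have hmem : (x - φ a₀) - (x - φ a) ∈ IsLocalRing.maximalIdeal R :=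
      Ideal.sub_mem _ ((IsLocalRing.mem_maximalIdeal _).mpr ha₀)
        ((IsLocalRing.mem_maximalIdeal _).mpr hnu)
    have heq : (x - φ a₀) - (x - φ a) = φ (a - a₀) := by rw [map_sub]; ring
    rw [heq] at hmem
    have hu : IsUnit (φ (a - a₀)) := (IsUnit.mk0 _ (sub_ne_zero.mpr hne)).map φ
    exact (IsLocalRing.mem_maximalIdeal _).mp hmem hu
  have hu : IsUnit (∏ a ∈ Finset.univ.erase a₀, (x - φ a)) := IsUnit.prod_iff.mpr hothers
  rw [← Finset.mul_prod_erase Finset.univ _ (Finset.mem_univ a₀)] at hprod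
  exact sub_eq_zero.mp (hu.mul_left_eq_zero.mp hprod)

/-- a pushout square of commutative rings is generated by the two images (copy of a lemma of the
lead's `FrobDer`) -/
theorem subring_eq_top_of_isPushout {A B A' B' : CommRingCat.{u}} {α : A ⟶ B} {β : A ⟶ A'}
    {ι₁ : B ⟶ B'} {ι₂ : A' ⟶ B'} (h : IsPushout α β ι₁ ι₂) (E : Subring B')
    (h₁ : ∀ b, ι₁.hom b ∈ E) (h₂ : ∀ a', ι₂.hom a' ∈ E) : E = ⊤ := by
  letI := α.hom.toAlgebra
  letI := β.hom.toAlgebra
  have tp := CommRingCat.isPushout_tensorProduct A B A'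
  let iso := tp.isoIsPushout _ _ h
  have e1 : ∀ b : B, iso.hom (b ⊗ₜ[A] (1 : A')) = ι₁.hom b := fun b =>
    congr($(tp.inl_isoIsPushout_hom _ _ h) b)
  have e2 : ∀ a' : A', iso.hom ((1 : B) ⊗ₜ[A] a') = ι₂.hom a' := fun a' =>
    congr($(tp.inr_isoIsPushout_hom _ _ h) a')
  rw [eq_top_iff]
  intro x _
  have hx : x = iso.hom (iso.inv x) := by
    change x = (iso.inv ≫ iso.hom) x
    rw [Iso.inv_hom_id]; rfl
  rw [hx]
  generalize iso.inv x = t
  induction t using TensorProduct.induction_on with
  | zero => rw [map_zero]; exact zero_mem _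
  | tmul b a' =>
    have h3 : b ⊗ₜ[A] a' = (b ⊗ₜ[A] (1 : A')) * ((1 : B) ⊗ₜ[A] a') := by
      rw [Algebra.TensorProduct.tmul_mul_tmul, mul_one, one_mul]
    rw [h3, map_mul, e1, e2]
    exact mul_mem (h₁ b) (h₂ a')
  | add x y hx hy => rw [map_add]; exact add_mem hx hy

theorem appLE_congr_hom {X Y : Scheme.{u}} {g₁ g₂ : X ⟶ Y} (h : g₁ = g₂) (U : Y.Opens)
    (V : X.Opens) (e1 : V ≤ g₁ ⁻¹ᵁ U) (e2 : V ≤ g₂ ⁻¹ᵁ U) :
    g₁.appLE U V e1 = g₂.appLE U V e2 := by
  subst h
  rfl

end Algebra

section Geo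

open FinFr

variable {k : Type u} [Field k] [Finite k] (K : Type u) [Field K] [Algebra k K]
  {X : Scheme.{u}} (f : X ⟶ Spec (CommRingCat.of k))
  (FX : X ⟶ X) (hle : ∀ U : X.Opens, U ≤ FX ⁻¹ᵁ U)
  (hFapp : ∀ (U : X.Opens) (s : Γ(X, U)), (FX.appLE U U (hle U)).hom s = s ^ Nat.card k)
  (F : ext K f ⟶ ext K f)
  (hF1 : F ≫ extπ K f = extπ K f ≫ FX) (hF2 : F ≫ extStr K f = extStr K f)

/-- the graph of `F` -/
noncomputable abbrev gr : ext K f ⟶ pullback (extStr K f) (extStr K f) :=
  pullback.lift (𝟙 (ext K f)) F (by rw [hF2, Category.id_comp])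

/-- the diagonal -/
noncomputable abbrev dg : ext K f ⟶ pullback (extStr K f) (extStr K f) :=
  pullback.lift (𝟙 (ext K f)) (𝟙 (ext K f)) rfl

/-- the fixed point scheme, unfolded -/
noncomputable abbrev fixE : Scheme.{u} := pullback (gr K f F hF2) (dg K f)

theorem fixScheme_eq : fixScheme (extStr K f) F hF2 = fixE K f F hF2 := rfl

/-- the inclusion of the fixed point scheme -/
noncomputable abbrev fixι : fixE K f F hF2 ⟶ ext K f := pullback.fst (gr K f F hF2) (dg K f)

instance isImmersion_dg : IsImmersion (dg K f) :=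
  inferInstanceAs (IsImmersion (pullback.diagonal (extStr K f)))

instance isImmersion_fixι : IsImmersion (fixι K f F hF2) := inferInstance

theorem fixι_comp : fixι K f F hF2 ≫ F = fixι K f F hF2 := by
  have hc := pullback.condition (f := gr K f F hF2) (g := dg K f)
  have h1 := congrArg (· ≫ pullback.fst _ _) hc
  have h2 := congrArg (· ≫ pullback.snd _ _) hc
  simp only [Category.assoc, pullback.lift_fst, pullback.lift_snd, Category.comp_id] at h1 h2
  rw [h2, ← h1]

/-- the map to `X` -/
noncomputable abbrev fixg : fixE K f F hF2 ⟶ X := fixι K f F hF2 ≫ extπ K f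

/-- the map to `Spec K` -/
noncomputable abbrev fixh : fixE K f F hF2 ⟶ Spec (CommRingCat.of K) :=
  fixι K f F hF2 ≫ extStr K f

include hF1 in
theorem fixg_comp : fixg K f F hF2 ≫ FX = fixg K f F hF2 := by
  rw [Category.assoc, ← hF1, ← Category.assoc, fixι_comp]

include hF1 hFapp in
theorem fixg_appLE_pow (U : X.Opens) (V : (fixE K f F hF2).Opens)
    (hV : V ≤ fixg K f F hF2 ⁻¹ᵁ U) (a : Γ(X, U)) :
    ((fixg K f F hF2).appLE U V hV).hom a ^ Nat.card k = ((fixg K f F hF2).appLE U V hV).hom a := by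
  have hV' : V ≤ (fixg K f F hF2 ≫ FX) ⁻¹ᵁ U := by
    rw [fixg_comp K f FX F hF1 hF2]
    exact hV
  have h1 : FX.appLE U U (hle U) ≫ (fixg K f F hF2).appLE U V hV =
      (fixg K f F hF2 ≫ FX).appLE U V hV' := Scheme.Hom.appLE_comp_appLE _ _ _ _ _ _ _
  have h2 : (fixg K f F hF2 ≫ FX).appLE U V hV' = (fixg K f F hF2).appLE U V hV :=
    appLE_congr_hom (fixg_comp K f FX F hF1 hF2) U V hV' hV
  have h3 := congrArg (fun t => t.hom a) (h1.trans h2)
  simp only [CommRingCat.hom_comp, RingHom.comp_apply] at h3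
  rw [hFapp, map_pow] at h3
  exact h3

/-- the structure map `K → O_{E,e}` -/
noncomputable def ρ (e : fixE K f F hF2) : K →+* (fixE K f F hF2).presheaf.stalk e :=
  ((fixE K f F hF2).presheaf.germ ⊤ e trivial).hom.comp
    ((fixh K f F hF2).appTop.hom.comp (Scheme.ΓSpecIso (CommRingCat.of K)).inv.hom)

include hF1 hFapp in
theorem ρ_surjective (e : fixE K f F hF2) : Function.Surjective (ρ K f F hF2 e) := by
  classical
  letI : Fintype k := Fintype.ofFinite k
  have hq : Nat.card k = Fintype.card k := Nat.card_eq_fintype_card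
  -- an affine open
  obtain ⟨U, hU, hxU, -⟩ := exists_isAffineOpen_mem_and_subset (X := X)
    (x := extπ K f (fixι K f F hF2 e)) (U := ⊤) trivial
  haveI : IsAffineHom (extπ K f) :=
    MorphismProperty.pullback_fst (P := @IsAffineHom) f (specι k K) inferInstance
  let W : (ext K f).Opens := extπ K f ⁻¹ᵁ U
  have hW : IsAffineOpen W := hU.preimage (extπ K f)
  have hxW : fixι K f F hF2 e ∈ W := hxU
  have hWY : W = extπ K f ⁻¹ᵁ U ⊓ extStr K f ⁻¹ᵁ ⊤ := by simp [W]
  have hpb : IsPullback (extπ K f) (extStr K f) f (specι k K) := IsPullback.of_hasPullback _ _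
  have hiso := isIso_pushoutSection_of_isAffineOpen hpb (US := ⊤) (UT := ⊤) (UX := U) le_top le_top
    hWY (isAffineOpen_top _) (isAffineOpen_top _) hU
  have hpo := (isIso_pushoutSection_iff hpb le_top le_top hWY).mp hiso
  -- the map Φ
  let Φ : Γ(ext K f, W) →+* (fixE K f F hF2).presheaf.stalk e :=
    ((fixι K f F hF2).stalkMap e).hom.comp
      ((ext K f).presheaf.germ W (fixι K f F hF2 e) hxW).hom
  let V : (fixE K f F hF2).Opens := fixι K f F hF2 ⁻¹ᵁ W
  have heV : e ∈ V := hxW
  have hΦ : ∀ r, Φ r = (fixE K f F hF2).presheaf.germ V e heV ((fixι K f F hF2).app W r) :=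
    fun r => Scheme.Hom.germ_stalkMap_apply (fixι K f F hF2) W e hxW r
  have hS : ((ρ K f F hF2 e).range.comap Φ) = ⊤ := by
    apply subring_eq_top_of_isPushout hpo
    · intro a
      rw [Subring.mem_comap, hΦ]
      have hVU : V ≤ fixg K f F hF2 ⁻¹ᵁ U := le_of_eq rfl
      have h1 : (fixι K f F hF2).app W (((extπ K f).appLE U W (by simp [hWY])).hom a) =
          ((fixg K f F hF2).appLE U V hVU).hom a := by
        have h2 : (extπ K f).appLE U W (by simp [hWY]) ≫ (fixι K f F hF2).appLE W V le_rfl =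
            (fixg K f F hF2).appLE U V hVU := Scheme.Hom.appLE_comp_appLE _ _ _ _ _ _ _
        rw [← h2, Scheme.Hom.app_eq_appLE]
        rfl
      rw [h1]
      have hy : ((fixE K f F hF2).presheaf.germ V e heV
          (((fixg K f F hF2).appLE U V hVU).hom a)) ^ Fintype.card k =
          (fixE K f F hF2).presheaf.germ V e heV (((fixg K f F hF2).appLE U V hVU).hom a) := by
        rw [← map_pow, ← hq, fixg_appLE_pow K f FX hle hFapp F hF1 hF2 U V hVU a]
      obtain ⟨a₀, ha₀⟩ := eq_map_of_pow_card_eq ((ρ K f F hF2 e).comp (algebraMap k K)) _ hy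
      exact ⟨algebraMap k K a₀, ha₀.symm⟩
    · intro c
      rw [Subring.mem_comap, hΦ]
      refine ⟨(Scheme.ΓSpecIso (CommRingCat.of K)).hom c, ?_⟩
      have hVT : V ≤ fixh K f F hF2 ⁻¹ᵁ ⊤ := le_top
      have h1 : (fixι K f F hF2).app W (((extStr K f).appLE ⊤ W (by simp [hWY])).hom c) =
          ((fixh K f F hF2).appLE ⊤ V hVT).hom c := by
        have h2 : (extStr K f).appLE ⊤ W (by simp [hWY]) ≫ (fixι K f F hF2).appLE W V le_rfl =
            (fixh K f F hF2).appLE ⊤ V hVT := Scheme.Hom.appLE_comp_appLE _ _ _ _ _ _ _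
        rw [← h2, Scheme.Hom.app_eq_appLE]
        rfl
      rw [h1]
      have h3 : ((fixh K f F hF2).appLE ⊤ V hVT).hom c =
          ((fixE K f F hF2).presheaf.map (homOfLE (le_top : V ≤ ⊤)).op).hom
            ((fixh K f F hF2).appTop.hom c) := rfl
      rw [h3]
      have h4 := TopCat.Presheaf.germ_res_apply (fixE K f F hF2).presheaf
        (homOfLE (le_top : V ≤ ⊤)) e heV ((fixh K f F hF2).appTop.hom c)
      rw [h4]
      unfold ρ
      simp only [RingHom.comp_apply]
      congr 2
      exact congrArg (fun t => t.hom c) (Scheme.ΓSpecIso (CommRingCat.of K)).hom_inv_id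
  -- surjectivity
  intro t
  obtain ⟨u, rfl⟩ := (fixι K f F hF2).stalkMap_surjective e t
  letI := (ext K f).presheaf.algebra_section_stalk ⟨fixι K f F hF2 e, hxW⟩
  haveI := hW.isLocalization_stalk ⟨fixι K f F hF2 e, hxW⟩
  obtain ⟨⟨r, s⟩, hrs⟩ := IsLocalization.surj
    (hW.primeIdealOf ⟨fixι K f F hF2 e, hxW⟩).asIdeal.primeCompl u
  have hsu : IsUnit (algebraMap Γ(ext K f, W)
      ((ext K f).presheaf.stalk (fixι K f F hF2 e)) s) :=
    IsLocalization.map_units _ s
  have hmem : ∀ r : Γ(ext K f, W), Φ r ∈ (ρ K f F hF2 e).range := by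
    intro r
    have : r ∈ ((ρ K f F hF2 e).range.comap Φ) := by rw [hS]; trivial
    exact this
  obtain ⟨cr, hcr⟩ := hmem r
  obtain ⟨cs, hcs⟩ := hmem s
  have hΦs : IsUnit (Φ s) := hsu.map ((fixι K f F hF2).stalkMap e).hom
  have hcs0 : cs ≠ 0 := by
    rintro rfl
    rw [map_zero] at hcs
    rw [← hcs] at hΦs
    exact not_isUnit_zero hΦs
  have h3 : ((fixι K f F hF2).stalkMap e).hom u * Φ s = Φ r := by
    have h4 := congrArg ((fixι K f F hF2).stalkMap e).hom hrs
    rw [map_mul] at h4
    exact h4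
  refine ⟨cr * cs⁻¹, ?_⟩
  rw [map_mul, hcr, ← h3, ← hcs, mul_assoc, ← map_mul, mul_inv_cancel₀ hcs0, map_one, mul_one]

include hF1 hFapp in
theorem isReduced_fixE : IsReduced (fixE K f F hF2) := by
  haveI : ∀ e : fixE K f F hF2, _root_.IsReduced ((fixE K f F hF2).presheaf.stalk e) := by
    intro e
    refine ⟨fun t ht => ?_⟩
    obtain ⟨c, rfl⟩ := ρ_surjective K f FX hle hFapp F hF1 hF2 e t
    obtain ⟨n, hn⟩ := ht
    rw [← map_pow] at hn
    have h0 : c ^ n = 0 := (ρ K f F hF2 e).injective (hn.trans (map_zero _).symm)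
    rw [IsReduced.eq_zero c ⟨n, h0⟩, map_zero]
  exact isReduced_of_isReduced_stalk _

include hF1 hFapp in
theorem eq_of_specializes (e e' : fixE K f F hF2) (h : e ⤳ e') : e = e' := by
  have hmem : e ∈ Set.range ((fixE K f F hF2).fromSpecStalk e') := by
    rw [Scheme.range_fromSpecStalk]
    exact h
  obtain ⟨y, hy⟩ := hmem
  have hbot : ∀ P : PrimeSpectrum ((fixE K f F hF2).presheaf.stalk e'), P.asIdeal = ⊥ := by
    intro P
    rw [eq_bot_iff]
    intro t ht
    obtain ⟨c, rfl⟩ := ρ_surjective K f FX hle hFapp F hF1 hF2 e' t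
    by_cases hc : c = 0
    · rw [hc, map_zero]; exact Ideal.zero_mem _
    · exfalso
      have hu : IsUnit (ρ K f F hF2 e' c) := (IsUnit.mk0 c hc).map _
      exact P.isPrime.ne_top (Ideal.eq_top_of_isUnit_mem _ ht hu)
  have hyc : y = IsLocalRing.closedPoint ((fixE K f F hF2).presheaf.stalk e') :=
    PrimeSpectrum.ext ((hbot y).trans (hbot _).symm)
  rw [← hy, hyc]
  exact Scheme.fromSpecStalk_closedPoint

include hF1 hFapp in
theorem finite_fixE [LocallyOfFiniteType f] [QuasiCompact f] : Finite (fixE K f F hF2) := by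
  haveI : LocallyOfFiniteType (extStr K f) := inferInstance
  haveI : QuasiCompact (extStr K f) := inferInstance
  haveI : IsLocallyNoetherian (ext K f) :=
    LocallyOfFiniteType.isLocallyNoetherian (extStr K f)
  haveI : CompactSpace (ext K f) := QuasiCompact.compactSpace_of_compactSpace (extStr K f)
  haveI : IsNoetherian (ext K f) := {}
  haveI : TopologicalSpace.NoetherianSpace (ext K f) := inferInstance
  haveI : TopologicalSpace.NoetherianSpace (fixE K f F hF2) :=
    (fixι K f F hF2).isEmbedding.isInducing.noetherianSpace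
  have hfin := TopologicalSpace.NoetherianSpace.finite_irreducibleComponents
    (α := fixE K f F hF2)
  rw [← Set.finite_univ_iff, ← sUnion_irreducibleComponents]
  refine Set.Finite.sUnion hfin ?_
  intro Z hZ
  have hZirr : IsIrreducible Z := hZ.1
  have hZcl : IsClosed Z := isClosed_of_mem_irreducibleComponents Z hZ
  obtain ⟨z, hz⟩ := QuasiSober.sober hZirr hZcl
  have hZz : Z = {z} := by
    rw [← hz.def]
    ext y
    constructor
    · intro hy
      have h1 : z ⤳ y := specializes_iff_mem_closure.mpr hy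
      exact (eq_of_specializes K f FX hle hFapp F hF1 hF2 z y h1).symm
    · rintro rfl
      exact subset_closure rfl
  rw [hZz]
  exact Set.finite_singleton z

include hF1 hFapp in
theorem S13067_main : IsReduced (fixScheme (extStr K f) F hF2) :=
  isReduced_fixE K f FX hle hFapp F hF1 hF2

include hF1 hFapp in
theorem S14550_main [LocallyOfFiniteType f] [QuasiCompact f] :
    IsReduced (fixScheme (extStr K f) F hF2) ∧ Finite ↥(fixScheme (extStr K f) F hF2) :=
  ⟨isReduced_fixE K f FX hle hFapp F hF1 hF2, finite_fixE K f FX hle hFapp F hF1 hF2⟩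

end Geo

end Groth.Agent.Helper2.FixFrob
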